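import Mathlib

/-!
Finite affine groups given by explicit lists, with a computable count of the solutions of `x ^ n = 1`.
Used for groups of the same order type with different solvability (Piwek).
-/

set_option autoImplicit false

namespace CfsgLib.OrderTypeExample

/-- Column vectors of length three. -/
@[ext]
structure V3 (R : Type) where
  x : R
  y : R
  z : R
deriving DecidableEq

/-- Three by three matrices. -/
@[ext]
structure M3 (R : Type) where
  a : R
  b : R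
  c : R
  d : R
  e : R
  f : R
  g : R
  h : R
  i : R
deriving DecidableEq

variable {R : Type} [CommRing R]

instance : Zero (V3 R) := ⟨⟨0, 0, 0⟩⟩
instance : Add (V3 R) := ⟨fun u v => ⟨u.x + v.x, u.y + v.y, u.z + v.z⟩⟩
@[simp] theorem V3.zero_x : (0 : V3 R).x = 0 := rfl
@[simp] theorem V3.zero_y : (0 : V3 R).y = 0 := rfl
@[simp] theorem V3.zero_z : (0 : V3 R).z = 0 := rfl
@[simp] theorem V3.add_x (u v : V3 R) : (u + v).x = u.x + v.x := rfl
@[simp] theorem V3.add_y (u v : V3 R) : (u + v).y = u.y + v.y := rfl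
@[simp] theorem V3.add_z (u v : V3 R) : (u + v).z = u.z + v.z := rfl

instance : Zero (M3 R) := ⟨⟨0, 0, 0, 0, 0, 0, 0, 0, 0⟩⟩
instance : One (M3 R) := ⟨⟨1, 0, 0, 0, 1, 0, 0, 0, 1⟩⟩
instance : Add (M3 R) := ⟨fun A B =>
  ⟨A.a + B.a, A.b + B.b, A.c + B.c, A.d + B.d, A.e + B.e, A.f + B.f, A.g + B.g, A.h + B.h, A.i + B.i⟩⟩
instance : Mul (M3 R) := ⟨fun A B =>
  ⟨A.a * B.a + A.b * B.d + A.c * B.g, A.a * B.b + A.b * B.e + A.c * B.h, A.a * B.c + A.b * B.f + A.c * B.i,
    A.d * B.a + A.e * B.d + A.f * B.g, A.d * B.b + A.e * B.e + A.f * B.h, A.d * B.c + A.e * B.f + A.f * B.i,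
    A.g * B.a + A.h * B.d + A.i * B.g, A.g * B.b + A.h * B.e + A.i * B.h, A.g * B.c + A.h * B.f + A.i * B.i⟩⟩

/-- Matrix times vector. -/
def M3.act (A : M3 R) (v : V3 R) : V3 R :=
  ⟨A.a * v.x + A.b * v.y + A.c * v.z, A.d * v.x + A.e * v.y + A.f * v.z,
    A.g * v.x + A.h * v.y + A.i * v.z⟩

/-- The determinant. -/
def M3.det (A : M3 R) : R :=
  A.a * (A.e * A.i - A.f * A.h) - A.b * (A.d * A.i - A.f * A.g) + A.c * (A.d * A.h - A.e * A.g)

@[simp] theorem M3.mul_a (A B : M3 R) : (A * B).a = A.a * B.a + A.b * B.d + A.c * B.g := rfl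
@[simp] theorem M3.add_a (A B : M3 R) : (A + B).a = A.a + B.a := rfl
@[simp] theorem M3.zero_a : (0 : M3 R).a = 0 := rfl
@[simp] theorem M3.one_a : (1 : M3 R).a = 1 := rfl
@[simp] theorem M3.mul_b (A B : M3 R) : (A * B).b = A.a * B.b + A.b * B.e + A.c * B.h := rfl
@[simp] theorem M3.add_b (A B : M3 R) : (A + B).b = A.b + B.b := rfl
@[simp] theorem M3.zero_b : (0 : M3 R).b = 0 := rfl
@[simp] theorem M3.one_b : (1 : M3 R).b = 0 := rfl
@[simp] theorem M3.mul_c (A B : M3 R) : (A * B).c = A.a * B.c + A.b * B.f + A.c * B.i := rfl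
@[simp] theorem M3.add_c (A B : M3 R) : (A + B).c = A.c + B.c := rfl
@[simp] theorem M3.zero_c : (0 : M3 R).c = 0 := rfl
@[simp] theorem M3.one_c : (1 : M3 R).c = 0 := rfl
@[simp] theorem M3.mul_d (A B : M3 R) : (A * B).d = A.d * B.a + A.e * B.d + A.f * B.g := rfl
@[simp] theorem M3.add_d (A B : M3 R) : (A + B).d = A.d + B.d := rfl
@[simp] theorem M3.zero_d : (0 : M3 R).d = 0 := rfl
@[simp] theorem M3.one_d : (1 : M3 R).d = 0 := rfl
@[simp] theorem M3.mul_e (A B : M3 R) : (A * B).e = A.d * B.b + A.e * B.e + A.f * B.h := rfl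
@[simp] theorem M3.add_e (A B : M3 R) : (A + B).e = A.e + B.e := rfl
@[simp] theorem M3.zero_e : (0 : M3 R).e = 0 := rfl
@[simp] theorem M3.one_e : (1 : M3 R).e = 1 := rfl
@[simp] theorem M3.mul_f (A B : M3 R) : (A * B).f = A.d * B.c + A.e * B.f + A.f * B.i := rfl
@[simp] theorem M3.add_f (A B : M3 R) : (A + B).f = A.f + B.f := rfl
@[simp] theorem M3.zero_f : (0 : M3 R).f = 0 := rfl
@[simp] theorem M3.one_f : (1 : M3 R).f = 0 := rfl
@[simp] theorem M3.mul_g (A B : M3 R) : (A * B).g = A.g * B.a + A.h * B.d + A.i * B.g := rfl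
@[simp] theorem M3.add_g (A B : M3 R) : (A + B).g = A.g + B.g := rfl
@[simp] theorem M3.zero_g : (0 : M3 R).g = 0 := rfl
@[simp] theorem M3.one_g : (1 : M3 R).g = 0 := rfl
@[simp] theorem M3.mul_h (A B : M3 R) : (A * B).h = A.g * B.b + A.h * B.e + A.i * B.h := rfl
@[simp] theorem M3.add_h (A B : M3 R) : (A + B).h = A.h + B.h := rfl
@[simp] theorem M3.zero_h : (0 : M3 R).h = 0 := rfl
@[simp] theorem M3.one_h : (1 : M3 R).h = 0 := rfl
@[simp] theorem M3.mul_i (A B : M3 R) : (A * B).i = A.g * B.c + A.h * B.f + A.i * B.i := rfl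
@[simp] theorem M3.add_i (A B : M3 R) : (A + B).i = A.i + B.i := rfl
@[simp] theorem M3.zero_i : (0 : M3 R).i = 0 := rfl
@[simp] theorem M3.one_i : (1 : M3 R).i = 1 := rfl

theorem M3.det_mul (A B : M3 R) : (A * B).det = A.det * B.det := by
  simp only [M3.det, M3.mul_a, M3.mul_b, M3.mul_c, M3.mul_d, M3.mul_e, M3.mul_f, M3.mul_g, M3.mul_h,
    M3.mul_i]
  ring

theorem M3.mul_assoc' (A B C : M3 R) : A * B * C = A * (B * C) := by
  ext <;> simp <;> ring

theorem M3.one_mul' (A : M3 R) : 1 * A = A := by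
  ext <;> simp

theorem M3.mul_one' (A : M3 R) : A * 1 = A := by
  ext <;> simp

theorem M3.act_mul (A B : M3 R) (v : V3 R) : (A * B).act v = A.act (B.act v) := by
  ext <;> simp [M3.act] <;> ring

/-- Linear parts: a matrix and an element of a cyclic group. -/
@[ext]
structure Lin (m k : ℕ) where
  A : M3 (ZMod m)
  t : ZMod k
deriving DecidableEq

variable {m k : ℕ}

instance : Monoid (Lin m k) where
  mul p q := ⟨p.A * q.A, p.t + q.t⟩
  one := ⟨1, 0⟩
  mul_assoc p q r := Lin.ext (M3.mul_assoc' _ _ _) (add_assoc _ _ _)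
  one_mul p := Lin.ext (M3.one_mul' _) (zero_add _)
  mul_one p := Lin.ext (M3.mul_one' _) (add_zero _)

/-- Affine elements. -/
@[ext]
structure El (m k : ℕ) where
  v : V3 (ZMod m)
  c : Lin m k
deriving DecidableEq

instance : Monoid (El m k) where
  mul p q := ⟨p.v + p.c.A.act q.v, p.c * q.c⟩
  one := ⟨0, 1⟩
  mul_assoc p q r := by
    refine El.ext ?_ (mul_assoc _ _ _)
    show p.v + p.c.A.act q.v + (p.c.A * q.c.A).act r.v = p.v + p.c.A.act (q.v + q.c.A.act r.v)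
    ext <;> simp [M3.act_mul] <;> simp [M3.act] <;> ring
  one_mul p := by
    refine El.ext ?_ (one_mul _)
    show (0 : V3 (ZMod m)) + (1 : M3 (ZMod m)).act p.v = p.v
    ext <;> simp [M3.act]
  mul_one p := by
    refine El.ext ?_ (mul_one _)
    show p.v + p.c.A.act 0 = p.v
    ext <;> simp [M3.act]

/-- The pair `(1 + A + ⋯ + A ^ (n - 1), c ^ n)` as a monoid. -/
@[ext]
structure Acc (m k : ℕ) where
  T : M3 (ZMod m)
  c : Lin m k
deriving DecidableEq

instance : Monoid (Acc m k) where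
  mul p q := ⟨p.T + p.c.A * q.T, p.c * q.c⟩
  one := ⟨0, 1⟩
  mul_assoc p q r := by
    refine Acc.ext ?_ (mul_assoc _ _ _)
    show p.T + p.c.A * q.T + p.c.A * q.c.A * r.T = p.T + p.c.A * (q.T + q.c.A * r.T)
    ext <;> simp <;> ring
  one_mul p := by
    refine Acc.ext ?_ (one_mul _)
    show (0 : M3 (ZMod m)) + (1 : M3 (ZMod m)) * p.T = p.T
    rw [M3.one_mul']
    ext <;> simp
  mul_one p := by
    refine Acc.ext ?_ (mul_one _)
    show p.T + p.c.A * (0 : M3 (ZMod m)) = p.T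
    ext <;> simp

theorem pow_eq_acc (x : El m k) (n : ℕ) :
    x ^ n = ⟨((⟨1, x.c⟩ : Acc m k) ^ n).T.act x.v, ((⟨1, x.c⟩ : Acc m k) ^ n).c⟩ := by
  induction n with
  | zero =>
    rw [pow_zero, pow_zero]
    refine El.ext ?_ rfl
    show (0 : V3 (ZMod m)) = (0 : M3 (ZMod m)).act x.v
    ext <;> simp [M3.act]
  | succ n ih =>
    rw [pow_succ' x, pow_succ' (⟨1, x.c⟩ : Acc m k), ih]
    refine El.ext ?_ rfl
    show x.v + x.c.A.act (((⟨1, x.c⟩ : Acc m k) ^ n).T.act x.v) =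
      ((1 : M3 (ZMod m)) + x.c.A * ((⟨1, x.c⟩ : Acc m k) ^ n).T).act x.v
    rw [← M3.act_mul]
    ext <;> simp [M3.act] <;> ring

end CfsgLib.OrderTypeExample
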