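import Cfsg.Agent.Lib.OrderTypeExample.Product

/-!
Explicit factors: two products with the same order type, one solvable and one not.
-/

set_option autoImplicit false
set_option maxHeartbeats 4000000
set_option maxRecDepth 100000

namespace CfsgLib.OrderTypeExample.Data

/-- All matrices of determinant one over the field with two elements. -/
def mats : List (M3 (ZMod 2)) :=
  let u : List (ZMod 2) := [0, 1]
  u.flatMap fun a => u.flatMap fun b => u.flatMap fun c => u.flatMap fun d => u.flatMap fun e =>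
  u.flatMap fun f => u.flatMap fun g => u.flatMap fun h => u.map fun i => ⟨a, b, c, d, e, f, g, h, i⟩

theorem mem_mats (A : M3 (ZMod 2)) : A ∈ mats := by
  have h : ∀ a : ZMod 2, a ∈ ([0, 1] : List (ZMod 2)) := by decide
  simp only [mats, List.mem_flatMap, List.mem_map]
  exact ⟨_, h A.a, _, h A.b, _, h A.c, _, h A.d, _, h A.e, _, h A.f, _, h A.g, _, h A.h, _, h A.i, rfl⟩

/-- Spec of the simple group of order 168. -/
def s0 : Spec where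
  m := 2
  k := 1
  e := ⟨1, 1, 1⟩
  C := (mats.filter fun A => decide (A.det = 1)).map fun A => ⟨A, 0⟩

theorem mem_s0 (c : Lin 2 1) : c ∈ s0.C ↔ c.A.det = 1 := by
  show c ∈ (mats.filter fun A => decide (A.det = 1)).map (fun A => (⟨A, 0⟩ : Lin 2 1)) ↔ _
  simp only [List.mem_map, List.mem_filter, decide_eq_true_eq]
  constructor
  · rintro ⟨A, ⟨-, hA⟩, rfl⟩
    exact hA
  · exact fun h => ⟨c.A, ⟨mem_mats _, h⟩, Lin.ext rfl (Subsingleton.elim _ _)⟩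

theorem ok0 : s0.Ok where
  hm := by decide
  one_mem := by decide +kernel
  mul_mem := fun a ha b hb => (mem_s0 _).mpr ((M3.det_mul a.A b.A).trans
    ((congrArg₂ (· * ·) ((mem_s0 a).mp ha) ((mem_s0 b).mp hb)).trans (one_mul 1)))
  nodupC := by decide +kernel
  nodupX := by decide +kernel
  act_mem := by decide +kernel
  exponent := by decide +kernel

/-- Factor number 0. -/
def f0 : Factor where
  S := s0
  ok := ok0
  mult := 6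
  counts := [1, 22, 57, 64, 78, 49, 120, 70, 105, 112, 126, 168]
  hcounts := by decide +kernel

/-- Spec number 1. -/
def s1 : Spec where
  m := 2
  k := 2
  e := ⟨1, 1, 1⟩
  C := [⟨⟨1, 0, 0, 0, 1, 0, 0, 0, 1⟩, 0⟩,
    ⟨⟨1, 0, 0, 0, 1, 0, 0, 0, 1⟩, 1⟩]

theorem ok1 : s1.Ok where
  hm := by decide
  one_mem := by decide +kernel
  mul_mem := by decide +kernel
  nodupC := by decide +kernel
  nodupX := by decide +kernel
  act_mem := by decide +kernel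
  exponent := by decide +kernel

/-- A derived chain for spec 1. -/
def levels1 : List (List (Lin s1.m s1.k)) :=
  [s1.C,
    [⟨⟨1, 0, 0, 0, 1, 0, 0, 0, 1⟩, 0⟩]]

theorem solvable1 : derivedSeries (carrier ok1) 2 = ⊥ :=
  derivedSeries_eq_bot ok1 levels1 rfl (by decide +kernel) (by decide +kernel) (by decide +kernel)

/-- Factor number 1. -/
def f1 : Factor where
  S := s1
  ok := ok1
  mult := 18
  counts := [1, 2, 1, 2, 2, 1, 2, 2, 1, 2, 2, 2]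
  hcounts := by decide +kernel

/-- Spec number 2. -/
def s2 : Spec where
  m := 2
  k := 3
  e := ⟨2, 2, 1⟩
  C := [⟨⟨1, 0, 0, 0, 1, 0, 0, 0, 1⟩, 0⟩,
    ⟨⟨0, 1, 0, 1, 1, 0, 0, 0, 1⟩, 1⟩,
    ⟨⟨1, 1, 0, 1, 0, 0, 0, 0, 1⟩, 2⟩]

theorem ok2 : s2.Ok where
  hm := by decide
  one_mem := by decide +kernel
  mul_mem := by decide +kernel
  nodupC := by decide +kernel
  nodupX := by decide +kernel
  act_mem := by decide +kernel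
  exponent := by decide +kernel

/-- A derived chain for spec 2. -/
def levels2 : List (List (Lin s2.m s2.k)) :=
  [s2.C,
    [⟨⟨1, 0, 0, 0, 1, 0, 0, 0, 1⟩, 0⟩]]

theorem solvable2 : derivedSeries (carrier ok2) 2 = ⊥ :=
  derivedSeries_eq_bot ok2 levels2 rfl (by decide +kernel) (by decide +kernel) (by decide +kernel)

/-- Factor number 2. -/
def f2 : Factor where
  S := s2
  ok := ok2
  mult := 6
  counts := [1, 4, 9, 4, 12, 1, 12, 4, 9, 4, 12, 12]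
  hcounts := by decide +kernel

/-- Spec number 3. -/
def s3 : Spec where
  m := 7
  k := 2
  e := ⟨7, 1, 1⟩
  C := [⟨⟨1, 0, 0, 0, 1, 0, 0, 0, 1⟩, 0⟩,
    ⟨⟨6, 0, 0, 0, 1, 0, 0, 0, 1⟩, 1⟩]

theorem ok3 : s3.Ok where
  hm := by decide
  one_mem := by decide +kernel
  mul_mem := by decide +kernel
  nodupC := by decide +kernel
  nodupX := by decide +kernel
  act_mem := by decide +kernel
  exponent := by decide +kernel

/-- A derived chain for spec 3. -/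
def levels3 : List (List (Lin s3.m s3.k)) :=
  [s3.C,
    [⟨⟨1, 0, 0, 0, 1, 0, 0, 0, 1⟩, 0⟩]]

theorem solvable3 : derivedSeries (carrier ok3) 2 = ⊥ :=
  derivedSeries_eq_bot ok3 levels3 rfl (by decide +kernel) (by decide +kernel) (by decide +kernel)

/-- Factor number 3. -/
def f3 : Factor where
  S := s3
  ok := ok3
  mult := 9
  counts := [1, 8, 1, 8, 8, 7, 8, 14, 7, 14, 14, 14]
  hcounts := by decide +kernel

/-- Spec number 4. -/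
def s4 : Spec where
  m := 2
  k := 3
  e := ⟨1, 1, 1⟩
  C := [⟨⟨1, 0, 0, 0, 1, 0, 0, 0, 1⟩, 0⟩,
    ⟨⟨1, 0, 0, 0, 1, 0, 0, 0, 1⟩, 1⟩,
    ⟨⟨1, 0, 0, 0, 1, 0, 0, 0, 1⟩, 2⟩]

theorem ok4 : s4.Ok where
  hm := by decide
  one_mem := by decide +kernel
  mul_mem := by decide +kernel
  nodupC := by decide +kernel
  nodupX := by decide +kernel
  act_mem := by decide +kernel
  exponent := by decide +kernel

/-- A derived chain for spec 4. -/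
def levels4 : List (List (Lin s4.m s4.k)) :=
  [s4.C,
    [⟨⟨1, 0, 0, 0, 1, 0, 0, 0, 1⟩, 0⟩]]

theorem solvable4 : derivedSeries (carrier ok4) 2 = ⊥ :=
  derivedSeries_eq_bot ok4 levels4 rfl (by decide +kernel) (by decide +kernel) (by decide +kernel)

/-- Factor number 4. -/
def f4 : Factor where
  S := s4
  ok := ok4
  mult := 6
  counts := [1, 1, 3, 1, 3, 1, 3, 1, 3, 1, 3, 3]
  hcounts := by decide +kernel

/-- Spec number 5. -/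
def s5 : Spec where
  m := 21
  k := 4
  e := ⟨21, 1, 1⟩
  C := [⟨⟨1, 0, 0, 0, 1, 0, 0, 0, 1⟩, 0⟩,
    ⟨⟨20, 0, 0, 0, 1, 0, 0, 0, 1⟩, 1⟩,
    ⟨⟨1, 0, 0, 0, 1, 0, 0, 0, 1⟩, 2⟩,
    ⟨⟨20, 0, 0, 0, 1, 0, 0, 0, 1⟩, 3⟩]

theorem ok5 : s5.Ok where
  hm := by decide
  one_mem := by decide +kernel
  mul_mem := by decide +kernel
  nodupC := by decide +kernel
  nodupX := by decide +kernel
  act_mem := by decide +kernel
  exponent := by decide +kernel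

/-- A derived chain for spec 5. -/
def levels5 : List (List (Lin s5.m s5.k)) :=
  [s5.C,
    [⟨⟨1, 0, 0, 0, 1, 0, 0, 0, 1⟩, 0⟩]]

theorem solvable5 : derivedSeries (carrier ok5) 2 = ⊥ :=
  derivedSeries_eq_bot ok5 levels5 rfl (by decide +kernel) (by decide +kernel) (by decide +kernel)

/-- Factor number 5. -/
def f5 : Factor where
  S := s5
  ok := ok5
  mult := 6
  counts := [1, 2, 3, 44, 6, 7, 48, 14, 21, 56, 42, 84]
  hcounts := by decide +kernel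

/-- Spec number 6. -/
def s6 : Spec where
  m := 21
  k := 2
  e := ⟨21, 3, 1⟩
  C := [⟨⟨1, 0, 0, 0, 1, 0, 0, 0, 1⟩, 0⟩,
    ⟨⟨20, 0, 0, 0, 20, 0, 0, 0, 1⟩, 1⟩]

theorem ok6 : s6.Ok where
  hm := by decide
  one_mem := by decide +kernel
  mul_mem := by decide +kernel
  nodupC := by decide +kernel
  nodupX := by decide +kernel
  act_mem := by decide +kernel
  exponent := by decide +kernel

/-- A derived chain for spec 6. -/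
def levels6 : List (List (Lin s6.m s6.k)) :=
  [s6.C,
    [⟨⟨1, 0, 0, 0, 1, 0, 0, 0, 1⟩, 0⟩]]

theorem solvable6 : derivedSeries (carrier ok6) 2 = ⊥ :=
  derivedSeries_eq_bot ok6 levels6 rfl (by decide +kernel) (by decide +kernel) (by decide +kernel)

/-- Factor number 6. -/
def f6 : Factor where
  S := s6
  ok := ok6
  mult := 12
  counts := [1, 64, 9, 64, 72, 7, 72, 70, 63, 70, 126, 126]
  hcounts := by decide +kernel

/-- Spec number 7. -/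
def s7 : Spec where
  m := 7
  k := 3
  e := ⟨7, 1, 1⟩
  C := [⟨⟨1, 0, 0, 0, 1, 0, 0, 0, 1⟩, 0⟩,
    ⟨⟨2, 0, 0, 0, 1, 0, 0, 0, 1⟩, 1⟩,
    ⟨⟨4, 0, 0, 0, 1, 0, 0, 0, 1⟩, 2⟩]

theorem ok7 : s7.Ok where
  hm := by decide
  one_mem := by decide +kernel
  mul_mem := by decide +kernel
  nodupC := by decide +kernel
  nodupX := by decide +kernel
  act_mem := by decide +kernel
  exponent := by decide +kernel

/-- A derived chain for spec 7. -/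
def levels7 : List (List (Lin s7.m s7.k)) :=
  [s7.C,
    [⟨⟨1, 0, 0, 0, 1, 0, 0, 0, 1⟩, 0⟩]]

theorem solvable7 : derivedSeries (carrier ok7) 2 = ⊥ :=
  derivedSeries_eq_bot ok7 levels7 rfl (by decide +kernel) (by decide +kernel) (by decide +kernel)

/-- Factor number 7. -/
def f7 : Factor where
  S := s7
  ok := ok7
  mult := 14
  counts := [1, 1, 15, 1, 15, 7, 15, 7, 21, 7, 21, 21]
  hcounts := by decide +kernel

/-- Spec number 8. -/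
def s8 : Spec where
  m := 2
  k := 1
  e := ⟨2, 2, 2⟩
  C := [⟨⟨1, 0, 0, 0, 1, 0, 0, 0, 1⟩, 0⟩,
    ⟨⟨0, 0, 1, 1, 0, 1, 0, 1, 0⟩, 0⟩,
    ⟨⟨1, 0, 0, 0, 0, 1, 0, 1, 1⟩, 0⟩,
    ⟨⟨0, 1, 0, 0, 1, 1, 1, 0, 1⟩, 0⟩,
    ⟨⟨0, 1, 1, 1, 1, 1, 0, 0, 1⟩, 0⟩,
    ⟨⟨0, 0, 1, 0, 1, 0, 1, 1, 1⟩, 0⟩,
    ⟨⟨1, 0, 0, 0, 1, 1, 0, 1, 0⟩, 0⟩,
    ⟨⟨1, 0, 1, 1, 1, 1, 0, 1, 1⟩, 0⟩,
    ⟨⟨1, 1, 1, 1, 1, 0, 0, 1, 0⟩, 0⟩,
    ⟨⟨0, 1, 0, 1, 1, 0, 0, 1, 1⟩, 0⟩,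
    ⟨⟨0, 1, 0, 1, 0, 1, 1, 1, 0⟩, 0⟩,
    ⟨⟨0, 1, 1, 0, 0, 1, 1, 1, 0⟩, 0⟩,
    ⟨⟨0, 0, 1, 1, 1, 1, 1, 0, 1⟩, 0⟩,
    ⟨⟨0, 1, 1, 1, 1, 0, 1, 1, 1⟩, 0⟩,
    ⟨⟨1, 1, 0, 1, 0, 0, 1, 0, 1⟩, 0⟩,
    ⟨⟨1, 1, 0, 1, 0, 1, 0, 0, 1⟩, 0⟩,
    ⟨⟨1, 0, 1, 1, 0, 0, 1, 1, 1⟩, 0⟩,
    ⟨⟨1, 0, 1, 0, 1, 1, 1, 0, 0⟩, 0⟩,
    ⟨⟨1, 1, 1, 0, 1, 0, 1, 0, 0⟩, 0⟩,
    ⟨⟨1, 1, 1, 1, 0, 0, 1, 1, 0⟩, 0⟩,
    ⟨⟨1, 1, 0, 0, 0, 1, 1, 0, 0⟩, 0⟩]

theorem ok8 : s8.Ok where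
  hm := by decide
  one_mem := by decide +kernel
  mul_mem := by decide +kernel
  nodupC := by decide +kernel
  nodupX := by decide +kernel
  act_mem := by decide +kernel
  exponent := by decide +kernel

/-- A derived chain for spec 8. -/
def levels8 : List (List (Lin s8.m s8.k)) :=
  [s8.C,
    [⟨⟨1, 0, 0, 0, 1, 0, 0, 0, 1⟩, 0⟩, ⟨⟨1, 0, 1, 1, 1, 1, 0, 1, 1⟩, 0⟩, ⟨⟨0, 0, 1, 1, 0, 1, 0, 1, 0⟩, 0⟩, ⟨⟨1, 1, 1, 1, 0, 0, 1, 1, 0⟩, 0⟩, ⟨⟨0, 1, 0, 0, 1, 1, 1, 0, 1⟩, 0⟩, ⟨⟨0, 1, 1, 1, 1, 0, 1, 1, 1⟩, 0⟩, ⟨⟨1, 1, 0, 0, 0, 1, 1, 0, 0⟩, 0⟩],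
    [⟨⟨1, 0, 0, 0, 1, 0, 0, 0, 1⟩, 0⟩]]

theorem solvable8 : derivedSeries (carrier ok8) 3 = ⊥ :=
  derivedSeries_eq_bot ok8 levels8 rfl (by decide +kernel) (by decide +kernel) (by decide +kernel)

/-- Factor number 8. -/
def f8 : Factor where
  S := s8
  ok := ok8
  mult := 6
  counts := [1, 8, 57, 8, 120, 49, 120, 56, 105, 56, 168, 168]
  hcounts := by decide +kernel

/-- Spec number 9. -/
def s9 : Spec where
  m := 7
  k := 6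
  e := ⟨7, 1, 1⟩
  C := [⟨⟨1, 0, 0, 0, 1, 0, 0, 0, 1⟩, 0⟩,
    ⟨⟨3, 0, 0, 0, 1, 0, 0, 0, 1⟩, 1⟩,
    ⟨⟨2, 0, 0, 0, 1, 0, 0, 0, 1⟩, 2⟩,
    ⟨⟨6, 0, 0, 0, 1, 0, 0, 0, 1⟩, 3⟩,
    ⟨⟨4, 0, 0, 0, 1, 0, 0, 0, 1⟩, 4⟩,
    ⟨⟨5, 0, 0, 0, 1, 0, 0, 0, 1⟩, 5⟩]

theorem ok9 : s9.Ok where
  hm := by decide
  one_mem := by decide +kernel
  mul_mem := by decide +kernel
  nodupC := by decide +kernel
  nodupX := by decide +kernel
  act_mem := by decide +kernel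
  exponent := by decide +kernel

/-- A derived chain for spec 9. -/
def levels9 : List (List (Lin s9.m s9.k)) :=
  [s9.C,
    [⟨⟨1, 0, 0, 0, 1, 0, 0, 0, 1⟩, 0⟩]]

theorem solvable9 : derivedSeries (carrier ok9) 2 = ⊥ :=
  derivedSeries_eq_bot ok9 levels9 rfl (by decide +kernel) (by decide +kernel) (by decide +kernel)

/-- Factor number 9. -/
def f9 : Factor where
  S := s9
  ok := ok9
  mult := 18
  counts := [1, 8, 15, 8, 36, 7, 36, 14, 21, 14, 42, 42]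
  hcounts := by decide +kernel

/-- Spec number 10. -/
def s10 : Spec where
  m := 7
  k := 1
  e := ⟨7, 7, 1⟩
  C := [⟨⟨1, 0, 0, 0, 1, 0, 0, 0, 1⟩, 0⟩,
    ⟨⟨0, 5, 0, 3, 0, 0, 0, 0, 1⟩, 0⟩,
    ⟨⟨1, 0, 0, 0, 6, 0, 0, 0, 1⟩, 0⟩,
    ⟨⟨0, 2, 0, 3, 0, 0, 0, 0, 1⟩, 0⟩,
    ⟨⟨0, 5, 0, 4, 0, 0, 0, 0, 1⟩, 0⟩,
    ⟨⟨6, 0, 0, 0, 1, 0, 0, 0, 1⟩, 0⟩,
    ⟨⟨0, 2, 0, 4, 0, 0, 0, 0, 1⟩, 0⟩,
    ⟨⟨6, 0, 0, 0, 6, 0, 0, 0, 1⟩, 0⟩]

theorem ok10 : s10.Ok where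
  hm := by decide
  one_mem := by decide +kernel
  mul_mem := by decide +kernel
  nodupC := by decide +kernel
  nodupX := by decide +kernel
  act_mem := by decide +kernel
  exponent := by decide +kernel

/-- A derived chain for spec 10. -/
def levels10 : List (List (Lin s10.m s10.k)) :=
  [s10.C,
    [⟨⟨1, 0, 0, 0, 1, 0, 0, 0, 1⟩, 0⟩, ⟨⟨6, 0, 0, 0, 6, 0, 0, 0, 1⟩, 0⟩],
    [⟨⟨1, 0, 0, 0, 1, 0, 0, 0, 1⟩, 0⟩]]

theorem solvable10 : derivedSeries (carrier ok10) 3 = ⊥ :=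
  derivedSeries_eq_bot ok10 levels10 rfl (by decide +kernel) (by decide +kernel) (by decide +kernel)

/-- Factor number 10. -/
def f10 : Factor where
  S := s10
  ok := ok10
  mult := 6
  counts := [1, 78, 1, 176, 78, 49, 176, 294, 49, 392, 294, 392]
  hcounts := by decide +kernel

/-- Spec number 11. -/
def s11 : Spec where
  m := 3
  k := 4
  e := ⟨3, 1, 1⟩
  C := [⟨⟨1, 0, 0, 0, 1, 0, 0, 0, 1⟩, 0⟩,
    ⟨⟨2, 0, 0, 0, 1, 0, 0, 0, 1⟩, 1⟩,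
    ⟨⟨1, 0, 0, 0, 1, 0, 0, 0, 1⟩, 2⟩,
    ⟨⟨2, 0, 0, 0, 1, 0, 0, 0, 1⟩, 3⟩]

theorem ok11 : s11.Ok where
  hm := by decide
  one_mem := by decide +kernel
  mul_mem := by decide +kernel
  nodupC := by decide +kernel
  nodupX := by decide +kernel
  act_mem := by decide +kernel
  exponent := by decide +kernel

/-- A derived chain for spec 11. -/
def levels11 : List (List (Lin s11.m s11.k)) :=
  [s11.C,
    [⟨⟨1, 0, 0, 0, 1, 0, 0, 0, 1⟩, 0⟩]]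

theorem solvable11 : derivedSeries (carrier ok11) 2 = ⊥ :=
  derivedSeries_eq_bot ok11 levels11 rfl (by decide +kernel) (by decide +kernel) (by decide +kernel)

/-- Factor number 11. -/
def f11 : Factor where
  S := s11
  ok := ok11
  mult := 6
  counts := [1, 2, 3, 8, 6, 1, 12, 2, 3, 8, 6, 12]
  hcounts := by decide +kernel

/-- Spec number 12. -/
def s12 : Spec where
  m := 7
  k := 3
  e := ⟨7, 7, 1⟩
  C := [⟨⟨1, 0, 0, 0, 1, 0, 0, 0, 1⟩, 0⟩,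
    ⟨⟨4, 0, 0, 0, 4, 0, 0, 0, 1⟩, 1⟩,
    ⟨⟨2, 0, 0, 0, 2, 0, 0, 0, 1⟩, 2⟩]

theorem ok12 : s12.Ok where
  hm := by decide
  one_mem := by decide +kernel
  mul_mem := by decide +kernel
  nodupC := by decide +kernel
  nodupX := by decide +kernel
  act_mem := by decide +kernel
  exponent := by decide +kernel

/-- A derived chain for spec 12. -/
def levels12 : List (List (Lin s12.m s12.k)) :=
  [s12.C,
    [⟨⟨1, 0, 0, 0, 1, 0, 0, 0, 1⟩, 0⟩]]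

theorem solvable12 : derivedSeries (carrier ok12) 2 = ⊥ :=
  derivedSeries_eq_bot ok12 levels12 rfl (by decide +kernel) (by decide +kernel) (by decide +kernel)

/-- Factor number 12. -/
def f12 : Factor where
  S := s12
  ok := ok12
  mult := 6
  counts := [1, 1, 99, 1, 99, 49, 99, 49, 147, 49, 147, 147]
  hcounts := by decide +kernel

/-- Spec number 13. -/
def s13 : Spec where
  m := 7
  k := 12
  e := ⟨7, 7, 1⟩
  C := [⟨⟨1, 0, 0, 0, 1, 0, 0, 0, 1⟩, 0⟩,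
    ⟨⟨5, 4, 0, 2, 2, 0, 0, 0, 1⟩, 1⟩,
    ⟨⟨5, 0, 0, 0, 5, 0, 0, 0, 1⟩, 2⟩,
    ⟨⟨4, 6, 0, 3, 3, 0, 0, 0, 1⟩, 3⟩,
    ⟨⟨4, 0, 0, 0, 4, 0, 0, 0, 1⟩, 4⟩,
    ⟨⟨6, 2, 0, 1, 1, 0, 0, 0, 1⟩, 5⟩,
    ⟨⟨6, 0, 0, 0, 6, 0, 0, 0, 1⟩, 6⟩,
    ⟨⟨2, 3, 0, 5, 5, 0, 0, 0, 1⟩, 7⟩,
    ⟨⟨2, 0, 0, 0, 2, 0, 0, 0, 1⟩, 8⟩,
    ⟨⟨3, 1, 0, 4, 4, 0, 0, 0, 1⟩, 9⟩,
    ⟨⟨3, 0, 0, 0, 3, 0, 0, 0, 1⟩, 10⟩,
    ⟨⟨1, 5, 0, 6, 6, 0, 0, 0, 1⟩, 11⟩]

theorem ok13 : s13.Ok where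
  hm := by decide
  one_mem := by decide +kernel
  mul_mem := by decide +kernel
  nodupC := by decide +kernel
  nodupX := by decide +kernel
  act_mem := by decide +kernel
  exponent := by decide +kernel

/-- A derived chain for spec 13. -/
def levels13 : List (List (Lin s13.m s13.k)) :=
  [s13.C,
    [⟨⟨1, 0, 0, 0, 1, 0, 0, 0, 1⟩, 0⟩]]

theorem solvable13 : derivedSeries (carrier ok13) 2 = ⊥ :=
  derivedSeries_eq_bot ok13 levels13 rfl (by decide +kernel) (by decide +kernel) (by decide +kernel)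

/-- Factor number 13. -/
def f13 : Factor where
  S := s13
  ok := ok13
  mult := 6
  counts := [1, 50, 99, 148, 246, 49, 540, 98, 147, 196, 294, 588]
  hcounts := by decide +kernel

/-- Spec number 14. -/
def s14 : Spec where
  m := 7
  k := 4
  e := ⟨7, 1, 1⟩
  C := [⟨⟨1, 0, 0, 0, 1, 0, 0, 0, 1⟩, 0⟩,
    ⟨⟨6, 0, 0, 0, 1, 0, 0, 0, 1⟩, 1⟩,
    ⟨⟨1, 0, 0, 0, 1, 0, 0, 0, 1⟩, 2⟩,
    ⟨⟨6, 0, 0, 0, 1, 0, 0, 0, 1⟩, 3⟩]

theorem ok14 : s14.Ok where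
  hm := by decide
  one_mem := by decide +kernel
  mul_mem := by decide +kernel
  nodupC := by decide +kernel
  nodupX := by decide +kernel
  act_mem := by decide +kernel
  exponent := by decide +kernel

/-- A derived chain for spec 14. -/
def levels14 : List (List (Lin s14.m s14.k)) :=
  [s14.C,
    [⟨⟨1, 0, 0, 0, 1, 0, 0, 0, 1⟩, 0⟩]]

theorem solvable14 : derivedSeries (carrier ok14) 2 = ⊥ :=
  derivedSeries_eq_bot ok14 levels14 rfl (by decide +kernel) (by decide +kernel) (by decide +kernel)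

/-- Factor number 14. -/
def f14 : Factor where
  S := s14
  ok := ok14
  mult := 21
  counts := [1, 2, 1, 16, 2, 7, 16, 14, 7, 28, 14, 28]
  hcounts := by decide +kernel

/-- Spec number 15. -/
def s15 : Spec where
  m := 7
  k := 12
  e := ⟨7, 7, 1⟩
  C := [⟨⟨1, 0, 0, 0, 1, 0, 0, 0, 1⟩, 0⟩,
    ⟨⟨5, 0, 0, 0, 5, 0, 0, 0, 1⟩, 1⟩,
    ⟨⟨4, 0, 0, 0, 4, 0, 0, 0, 1⟩, 2⟩,
    ⟨⟨6, 0, 0, 0, 6, 0, 0, 0, 1⟩, 3⟩,
    ⟨⟨2, 0, 0, 0, 2, 0, 0, 0, 1⟩, 4⟩,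
    ⟨⟨3, 0, 0, 0, 3, 0, 0, 0, 1⟩, 5⟩,
    ⟨⟨1, 0, 0, 0, 1, 0, 0, 0, 1⟩, 6⟩,
    ⟨⟨5, 0, 0, 0, 5, 0, 0, 0, 1⟩, 7⟩,
    ⟨⟨4, 0, 0, 0, 4, 0, 0, 0, 1⟩, 8⟩,
    ⟨⟨6, 0, 0, 0, 6, 0, 0, 0, 1⟩, 9⟩,
    ⟨⟨2, 0, 0, 0, 2, 0, 0, 0, 1⟩, 10⟩,
    ⟨⟨3, 0, 0, 0, 3, 0, 0, 0, 1⟩, 11⟩]

theorem ok15 : s15.Ok where
  hm := by decide
  one_mem := by decide +kernel
  mul_mem := by decide +kernel
  nodupC := by decide +kernel
  nodupX := by decide +kernel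
  act_mem := by decide +kernel
  exponent := by decide +kernel

/-- A derived chain for spec 15. -/
def levels15 : List (List (Lin s15.m s15.k)) :=
  [s15.C,
    [⟨⟨1, 0, 0, 0, 1, 0, 0, 0, 1⟩, 0⟩]]

theorem solvable15 : derivedSeries (carrier ok15) 2 = ⊥ :=
  derivedSeries_eq_bot ok15 levels15 rfl (by decide +kernel) (by decide +kernel) (by decide +kernel)

/-- Factor number 15. -/
def f15 : Factor where
  S := s15
  ok := ok15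
  mult := 6
  counts := [1, 2, 99, 100, 198, 49, 492, 98, 147, 196, 294, 588]
  hcounts := by decide +kernel

/-- Spec number 16. -/
def s16 : Spec where
  m := 7
  k := 6
  e := ⟨7, 7, 1⟩
  C := [⟨⟨1, 0, 0, 0, 1, 0, 0, 0, 1⟩, 0⟩,
    ⟨⟨5, 0, 0, 0, 5, 0, 0, 0, 1⟩, 1⟩,
    ⟨⟨4, 0, 0, 0, 4, 0, 0, 0, 1⟩, 2⟩,
    ⟨⟨6, 0, 0, 0, 6, 0, 0, 0, 1⟩, 3⟩,
    ⟨⟨2, 0, 0, 0, 2, 0, 0, 0, 1⟩, 4⟩,
    ⟨⟨3, 0, 0, 0, 3, 0, 0, 0, 1⟩, 5⟩]

theorem ok16 : s16.Ok where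
  hm := by decide
  one_mem := by decide +kernel
  mul_mem := by decide +kernel
  nodupC := by decide +kernel
  nodupX := by decide +kernel
  act_mem := by decide +kernel
  exponent := by decide +kernel

/-- A derived chain for spec 16. -/
def levels16 : List (List (Lin s16.m s16.k)) :=
  [s16.C,
    [⟨⟨1, 0, 0, 0, 1, 0, 0, 0, 1⟩, 0⟩]]

theorem solvable16 : derivedSeries (carrier ok16) 2 = ⊥ :=
  derivedSeries_eq_bot ok16 levels16 rfl (by decide +kernel) (by decide +kernel) (by decide +kernel)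

/-- Factor number 16. -/
def f16 : Factor where
  S := s16
  ok := ok16
  mult := 6
  counts := [1, 50, 99, 50, 246, 49, 246, 98, 147, 98, 294, 294]
  hcounts := by decide +kernel

/-- Spec number 17. -/
def s17 : Spec where
  m := 2
  k := 1
  e := ⟨2, 2, 1⟩
  C := [⟨⟨1, 0, 0, 0, 1, 0, 0, 0, 1⟩, 0⟩,
    ⟨⟨1, 1, 0, 0, 1, 0, 0, 0, 1⟩, 0⟩,
    ⟨⟨1, 0, 0, 1, 1, 0, 0, 0, 1⟩, 0⟩,
    ⟨⟨0, 1, 0, 1, 1, 0, 0, 0, 1⟩, 0⟩,
    ⟨⟨1, 1, 0, 1, 0, 0, 0, 0, 1⟩, 0⟩,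
    ⟨⟨0, 1, 0, 1, 0, 0, 0, 0, 1⟩, 0⟩]

theorem ok17 : s17.Ok where
  hm := by decide
  one_mem := by decide +kernel
  mul_mem := by decide +kernel
  nodupC := by decide +kernel
  nodupX := by decide +kernel
  act_mem := by decide +kernel
  exponent := by decide +kernel

/-- A derived chain for spec 17. -/
def levels17 : List (List (Lin s17.m s17.k)) :=
  [s17.C,
    [⟨⟨1, 0, 0, 0, 1, 0, 0, 0, 1⟩, 0⟩, ⟨⟨1, 1, 0, 1, 0, 0, 0, 0, 1⟩, 0⟩, ⟨⟨0, 1, 0, 1, 1, 0, 0, 0, 1⟩, 0⟩],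
    [⟨⟨1, 0, 0, 0, 1, 0, 0, 0, 1⟩, 0⟩]]

theorem solvable17 : derivedSeries (carrier ok17) 3 = ⊥ :=
  derivedSeries_eq_bot ok17 levels17 rfl (by decide +kernel) (by decide +kernel) (by decide +kernel)

/-- Factor number 17. -/
def f17 : Factor where
  S := s17
  ok := ok17
  mult := 6
  counts := [1, 10, 9, 16, 18, 1, 24, 10, 9, 16, 18, 24]
  hcounts := by decide +kernel

/-- Spec number 18. -/
def s18 : Spec where
  m := 7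
  k := 4
  e := ⟨7, 7, 1⟩
  C := [⟨⟨1, 0, 0, 0, 1, 0, 0, 0, 1⟩, 0⟩,
    ⟨⟨6, 0, 0, 0, 6, 0, 0, 0, 1⟩, 1⟩,
    ⟨⟨1, 0, 0, 0, 1, 0, 0, 0, 1⟩, 2⟩,
    ⟨⟨6, 0, 0, 0, 6, 0, 0, 0, 1⟩, 3⟩]

theorem ok18 : s18.Ok where
  hm := by decide
  one_mem := by decide +kernel
  mul_mem := by decide +kernel
  nodupC := by decide +kernel
  nodupX := by decide +kernel
  act_mem := by decide +kernel
  exponent := by decide +kernel

/-- A derived chain for spec 18. -/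
def levels18 : List (List (Lin s18.m s18.k)) :=
  [s18.C,
    [⟨⟨1, 0, 0, 0, 1, 0, 0, 0, 1⟩, 0⟩]]

theorem solvable18 : derivedSeries (carrier ok18) 2 = ⊥ :=
  derivedSeries_eq_bot ok18 levels18 rfl (by decide +kernel) (by decide +kernel) (by decide +kernel)

/-- Factor number 18. -/
def f18 : Factor where
  S := s18
  ok := ok18
  mult := 9
  counts := [1, 2, 1, 100, 2, 49, 100, 98, 49, 196, 98, 196]
  hcounts := by decide +kernel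

/-- Spec number 19. -/
def s19 : Spec where
  m := 7
  k := 2
  e := ⟨7, 7, 1⟩
  C := [⟨⟨1, 0, 0, 0, 1, 0, 0, 0, 1⟩, 0⟩,
    ⟨⟨6, 0, 0, 0, 6, 0, 0, 0, 1⟩, 1⟩]

theorem ok19 : s19.Ok where
  hm := by decide
  one_mem := by decide +kernel
  mul_mem := by decide +kernel
  nodupC := by decide +kernel
  nodupX := by decide +kernel
  act_mem := by decide +kernel
  exponent := by decide +kernel

/-- A derived chain for spec 19. -/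
def levels19 : List (List (Lin s19.m s19.k)) :=
  [s19.C,
    [⟨⟨1, 0, 0, 0, 1, 0, 0, 0, 1⟩, 0⟩]]

theorem solvable19 : derivedSeries (carrier ok19) 2 = ⊥ :=
  derivedSeries_eq_bot ok19 levels19 rfl (by decide +kernel) (by decide +kernel) (by decide +kernel)

/-- Factor number 19. -/
def f19 : Factor where
  S := s19
  ok := ok19
  mult := 1
  counts := [1, 50, 1, 50, 50, 49, 50, 98, 49, 98, 98, 98]
  hcounts := by decide +kernel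

/-- Spec number 20. -/
def s20 : Spec where
  m := 3
  k := 2
  e := ⟨3, 1, 1⟩
  C := [⟨⟨1, 0, 0, 0, 1, 0, 0, 0, 1⟩, 0⟩,
    ⟨⟨2, 0, 0, 0, 1, 0, 0, 0, 1⟩, 1⟩]

theorem ok20 : s20.Ok where
  hm := by decide
  one_mem := by decide +kernel
  mul_mem := by decide +kernel
  nodupC := by decide +kernel
  nodupX := by decide +kernel
  act_mem := by decide +kernel
  exponent := by decide +kernel

/-- A derived chain for spec 20. -/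
def levels20 : List (List (Lin s20.m s20.k)) :=
  [s20.C,
    [⟨⟨1, 0, 0, 0, 1, 0, 0, 0, 1⟩, 0⟩]]

theorem solvable20 : derivedSeries (carrier ok20) 2 = ⊥ :=
  derivedSeries_eq_bot ok20 levels20 rfl (by decide +kernel) (by decide +kernel) (by decide +kernel)

/-- Factor number 20. -/
def f20 : Factor where
  S := s20
  ok := ok20
  mult := 6
  counts := [1, 4, 3, 4, 6, 1, 6, 4, 3, 4, 6, 6]
  hcounts := by decide +kernel

/-- Spec number 21. -/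
def s21 : Spec where
  m := 7
  k := 12
  e := ⟨7, 7, 1⟩
  C := [⟨⟨1, 0, 0, 0, 1, 0, 0, 0, 1⟩, 0⟩,
    ⟨⟨6, 0, 0, 0, 3, 0, 0, 0, 1⟩, 1⟩,
    ⟨⟨1, 0, 0, 0, 2, 0, 0, 0, 1⟩, 2⟩,
    ⟨⟨6, 0, 0, 0, 6, 0, 0, 0, 1⟩, 3⟩,
    ⟨⟨1, 0, 0, 0, 4, 0, 0, 0, 1⟩, 4⟩,
    ⟨⟨6, 0, 0, 0, 5, 0, 0, 0, 1⟩, 5⟩,
    ⟨⟨1, 0, 0, 0, 1, 0, 0, 0, 1⟩, 6⟩,
    ⟨⟨6, 0, 0, 0, 3, 0, 0, 0, 1⟩, 7⟩,
    ⟨⟨1, 0, 0, 0, 2, 0, 0, 0, 1⟩, 8⟩,
    ⟨⟨6, 0, 0, 0, 6, 0, 0, 0, 1⟩, 9⟩,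
    ⟨⟨1, 0, 0, 0, 4, 0, 0, 0, 1⟩, 10⟩,
    ⟨⟨6, 0, 0, 0, 5, 0, 0, 0, 1⟩, 11⟩]

theorem ok21 : s21.Ok where
  hm := by decide
  one_mem := by decide +kernel
  mul_mem := by decide +kernel
  nodupC := by decide +kernel
  nodupX := by decide +kernel
  act_mem := by decide +kernel
  exponent := by decide +kernel

/-- A derived chain for spec 21. -/
def levels21 : List (List (Lin s21.m s21.k)) :=
  [s21.C,
    [⟨⟨1, 0, 0, 0, 1, 0, 0, 0, 1⟩, 0⟩]]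

theorem solvable21 : derivedSeries (carrier ok21) 2 = ⊥ :=
  derivedSeries_eq_bot ok21 levels21 rfl (by decide +kernel) (by decide +kernel) (by decide +kernel)

/-- Factor number 21. -/
def f21 : Factor where
  S := s21
  ok := ok21
  mult := 6
  counts := [1, 2, 15, 100, 30, 49, 324, 98, 147, 196, 294, 588]
  hcounts := by decide +kernel

/-- Spec number 22. -/
def s22 : Spec where
  m := 7
  k := 12
  e := ⟨7, 1, 1⟩
  C := [⟨⟨1, 0, 0, 0, 1, 0, 0, 0, 1⟩, 0⟩,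
    ⟨⟨3, 0, 0, 0, 1, 0, 0, 0, 1⟩, 1⟩,
    ⟨⟨2, 0, 0, 0, 1, 0, 0, 0, 1⟩, 2⟩,
    ⟨⟨6, 0, 0, 0, 1, 0, 0, 0, 1⟩, 3⟩,
    ⟨⟨4, 0, 0, 0, 1, 0, 0, 0, 1⟩, 4⟩,
    ⟨⟨5, 0, 0, 0, 1, 0, 0, 0, 1⟩, 5⟩,
    ⟨⟨1, 0, 0, 0, 1, 0, 0, 0, 1⟩, 6⟩,
    ⟨⟨3, 0, 0, 0, 1, 0, 0, 0, 1⟩, 7⟩,
    ⟨⟨2, 0, 0, 0, 1, 0, 0, 0, 1⟩, 8⟩,
    ⟨⟨6, 0, 0, 0, 1, 0, 0, 0, 1⟩, 9⟩,
    ⟨⟨4, 0, 0, 0, 1, 0, 0, 0, 1⟩, 10⟩,
    ⟨⟨5, 0, 0, 0, 1, 0, 0, 0, 1⟩, 11⟩]

theorem ok22 : s22.Ok where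
  hm := by decide
  one_mem := by decide +kernel
  mul_mem := by decide +kernel
  nodupC := by decide +kernel
  nodupX := by decide +kernel
  act_mem := by decide +kernel
  exponent := by decide +kernel

/-- A derived chain for spec 22. -/
def levels22 : List (List (Lin s22.m s22.k)) :=
  [s22.C,
    [⟨⟨1, 0, 0, 0, 1, 0, 0, 0, 1⟩, 0⟩]]

theorem solvable22 : derivedSeries (carrier ok22) 2 = ⊥ :=
  derivedSeries_eq_bot ok22 levels22 rfl (by decide +kernel) (by decide +kernel) (by decide +kernel)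

/-- Factor number 22. -/
def f22 : Factor where
  S := s22
  ok := ok22
  mult := 18
  counts := [1, 2, 15, 16, 30, 7, 72, 14, 21, 28, 42, 84]
  hcounts := by decide +kernel

/-- Spec number 23. -/
def s23 : Spec where
  m := 7
  k := 6
  e := ⟨7, 7, 1⟩
  C := [⟨⟨1, 0, 0, 0, 1, 0, 0, 0, 1⟩, 0⟩,
    ⟨⟨6, 0, 0, 0, 3, 0, 0, 0, 1⟩, 1⟩,
    ⟨⟨1, 0, 0, 0, 2, 0, 0, 0, 1⟩, 2⟩,
    ⟨⟨6, 0, 0, 0, 6, 0, 0, 0, 1⟩, 3⟩,
    ⟨⟨1, 0, 0, 0, 4, 0, 0, 0, 1⟩, 4⟩,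
    ⟨⟨6, 0, 0, 0, 5, 0, 0, 0, 1⟩, 5⟩]

theorem ok23 : s23.Ok where
  hm := by decide
  one_mem := by decide +kernel
  mul_mem := by decide +kernel
  nodupC := by decide +kernel
  nodupX := by decide +kernel
  act_mem := by decide +kernel
  exponent := by decide +kernel

/-- A derived chain for spec 23. -/
def levels23 : List (List (Lin s23.m s23.k)) :=
  [s23.C,
    [⟨⟨1, 0, 0, 0, 1, 0, 0, 0, 1⟩, 0⟩]]

theorem solvable23 : derivedSeries (carrier ok23) 2 = ⊥ :=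
  derivedSeries_eq_bot ok23 levels23 rfl (by decide +kernel) (by decide +kernel) (by decide +kernel)

/-- Factor number 23. -/
def f23 : Factor where
  S := s23
  ok := ok23
  mult := 4
  counts := [1, 50, 15, 50, 162, 49, 162, 98, 147, 98, 294, 294]
  hcounts := by decide +kernel

/-- Spec number 24. -/
def s24 : Spec where
  m := 7
  k := 1
  e := ⟨7, 7, 1⟩
  C := [⟨⟨1, 0, 0, 0, 1, 0, 0, 0, 1⟩, 0⟩,
    ⟨⟨4, 0, 0, 0, 4, 0, 0, 0, 1⟩, 0⟩,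
    ⟨⟨6, 0, 0, 0, 1, 0, 0, 0, 1⟩, 0⟩,
    ⟨⟨0, 4, 0, 2, 0, 0, 0, 0, 1⟩, 0⟩,
    ⟨⟨2, 0, 0, 0, 2, 0, 0, 0, 1⟩, 0⟩,
    ⟨⟨3, 0, 0, 0, 4, 0, 0, 0, 1⟩, 0⟩,
    ⟨⟨0, 2, 0, 1, 0, 0, 0, 0, 1⟩, 0⟩,
    ⟨⟨0, 3, 0, 2, 0, 0, 0, 0, 1⟩, 0⟩,
    ⟨⟨0, 4, 0, 5, 0, 0, 0, 0, 1⟩, 0⟩,
    ⟨⟨5, 0, 0, 0, 2, 0, 0, 0, 1⟩, 0⟩,
    ⟨⟨0, 1, 0, 4, 0, 0, 0, 0, 1⟩, 0⟩,
    ⟨⟨0, 5, 0, 1, 0, 0, 0, 0, 1⟩, 0⟩,
    ⟨⟨0, 2, 0, 6, 0, 0, 0, 0, 1⟩, 0⟩,
    ⟨⟨0, 3, 0, 5, 0, 0, 0, 0, 1⟩, 0⟩,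
    ⟨⟨1, 0, 0, 0, 6, 0, 0, 0, 1⟩, 0⟩,
    ⟨⟨0, 6, 0, 4, 0, 0, 0, 0, 1⟩, 0⟩,
    ⟨⟨0, 1, 0, 3, 0, 0, 0, 0, 1⟩, 0⟩,
    ⟨⟨0, 5, 0, 6, 0, 0, 0, 0, 1⟩, 0⟩,
    ⟨⟨4, 0, 0, 0, 3, 0, 0, 0, 1⟩, 0⟩,
    ⟨⟨6, 0, 0, 0, 6, 0, 0, 0, 1⟩, 0⟩,
    ⟨⟨0, 6, 0, 3, 0, 0, 0, 0, 1⟩, 0⟩,
    ⟨⟨2, 0, 0, 0, 5, 0, 0, 0, 1⟩, 0⟩,
    ⟨⟨3, 0, 0, 0, 3, 0, 0, 0, 1⟩, 0⟩,
    ⟨⟨5, 0, 0, 0, 5, 0, 0, 0, 1⟩, 0⟩]

theorem ok24 : s24.Ok where
  hm := by decide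
  one_mem := by decide +kernel
  mul_mem := by decide +kernel
  nodupC := by decide +kernel
  nodupX := by decide +kernel
  act_mem := by decide +kernel
  exponent := by decide +kernel

/-- A derived chain for spec 24. -/
def levels24 : List (List (Lin s24.m s24.k)) :=
  [s24.C,
    [⟨⟨1, 0, 0, 0, 1, 0, 0, 0, 1⟩, 0⟩, ⟨⟨6, 0, 0, 0, 6, 0, 0, 0, 1⟩, 0⟩],
    [⟨⟨1, 0, 0, 0, 1, 0, 0, 0, 1⟩, 0⟩]]

theorem solvable24 : derivedSeries (carrier ok24) 3 = ⊥ :=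
  derivedSeries_eq_bot ok24 levels24 rfl (by decide +kernel) (by decide +kernel) (by decide +kernel)

/-- Factor number 24. -/
def f24 : Factor where
  S := s24
  ok := ok24
  mult := 6
  counts := [1, 78, 99, 176, 666, 49, 960, 294, 147, 392, 882, 1176]
  hcounts := by decide +kernel

/-- Spec number 25. -/
def s25 : Spec where
  m := 2
  k := 7
  e := ⟨1, 1, 1⟩
  C := [⟨⟨1, 0, 0, 0, 1, 0, 0, 0, 1⟩, 0⟩,
    ⟨⟨1, 0, 0, 0, 1, 0, 0, 0, 1⟩, 1⟩,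
    ⟨⟨1, 0, 0, 0, 1, 0, 0, 0, 1⟩, 2⟩,
    ⟨⟨1, 0, 0, 0, 1, 0, 0, 0, 1⟩, 3⟩,
    ⟨⟨1, 0, 0, 0, 1, 0, 0, 0, 1⟩, 4⟩,
    ⟨⟨1, 0, 0, 0, 1, 0, 0, 0, 1⟩, 5⟩,
    ⟨⟨1, 0, 0, 0, 1, 0, 0, 0, 1⟩, 6⟩]

theorem ok25 : s25.Ok where
  hm := by decide
  one_mem := by decide +kernel
  mul_mem := by decide +kernel
  nodupC := by decide +kernel
  nodupX := by decide +kernel
  act_mem := by decide +kernel
  exponent := by decide +kernel

/-- A derived chain for spec 25. -/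
def levels25 : List (List (Lin s25.m s25.k)) :=
  [s25.C,
    [⟨⟨1, 0, 0, 0, 1, 0, 0, 0, 1⟩, 0⟩]]

theorem solvable25 : derivedSeries (carrier ok25) 2 = ⊥ :=
  derivedSeries_eq_bot ok25 levels25 rfl (by decide +kernel) (by decide +kernel) (by decide +kernel)

/-- Factor number 25. -/
def f25 : Factor where
  S := s25
  ok := ok25
  mult := 8
  counts := [1, 1, 1, 1, 1, 7, 1, 7, 7, 7, 7, 7]
  hcounts := by decide +kernel

/-- Spec number 26. -/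
def s26 : Spec where
  m := 7
  k := 1
  e := ⟨7, 7, 1⟩
  C := [⟨⟨1, 0, 0, 0, 1, 0, 0, 0, 1⟩, 0⟩,
    ⟨⟨2, 0, 0, 0, 4, 0, 0, 0, 1⟩, 0⟩,
    ⟨⟨0, 2, 0, 4, 0, 0, 0, 0, 1⟩, 0⟩,
    ⟨⟨4, 0, 0, 0, 2, 0, 0, 0, 1⟩, 0⟩,
    ⟨⟨0, 4, 0, 2, 0, 0, 0, 0, 1⟩, 0⟩,
    ⟨⟨0, 1, 0, 1, 0, 0, 0, 0, 1⟩, 0⟩]

theorem ok26 : s26.Ok where
  hm := by decide
  one_mem := by decide +kernel
  mul_mem := by decide +kernel
  nodupC := by decide +kernel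
  nodupX := by decide +kernel
  act_mem := by decide +kernel
  exponent := by decide +kernel

/-- A derived chain for spec 26. -/
def levels26 : List (List (Lin s26.m s26.k)) :=
  [s26.C,
    [⟨⟨1, 0, 0, 0, 1, 0, 0, 0, 1⟩, 0⟩, ⟨⟨2, 0, 0, 0, 4, 0, 0, 0, 1⟩, 0⟩, ⟨⟨4, 0, 0, 0, 2, 0, 0, 0, 1⟩, 0⟩],
    [⟨⟨1, 0, 0, 0, 1, 0, 0, 0, 1⟩, 0⟩]]

theorem solvable26 : derivedSeries (carrier ok26) 3 = ⊥ :=
  derivedSeries_eq_bot ok26 levels26 rfl (by decide +kernel) (by decide +kernel) (by decide +kernel)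

/-- Factor number 26. -/
def f26 : Factor where
  S := s26
  ok := ok26
  mult := 6
  counts := [1, 22, 99, 22, 120, 49, 120, 196, 147, 196, 294, 294]
  hcounts := by decide +kernel

/-- Spec number 27. -/
def s27 : Spec where
  m := 2
  k := 4
  e := ⟨1, 1, 1⟩
  C := [⟨⟨1, 0, 0, 0, 1, 0, 0, 0, 1⟩, 0⟩,
    ⟨⟨1, 0, 0, 0, 1, 0, 0, 0, 1⟩, 1⟩,
    ⟨⟨1, 0, 0, 0, 1, 0, 0, 0, 1⟩, 2⟩,
    ⟨⟨1, 0, 0, 0, 1, 0, 0, 0, 1⟩, 3⟩]

theorem ok27 : s27.Ok where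
  hm := by decide
  one_mem := by decide +kernel
  mul_mem := by decide +kernel
  nodupC := by decide +kernel
  nodupX := by decide +kernel
  act_mem := by decide +kernel
  exponent := by decide +kernel

/-- A derived chain for spec 27. -/
def levels27 : List (List (Lin s27.m s27.k)) :=
  [s27.C,
    [⟨⟨1, 0, 0, 0, 1, 0, 0, 0, 1⟩, 0⟩]]

theorem solvable27 : derivedSeries (carrier ok27) 2 = ⊥ :=
  derivedSeries_eq_bot ok27 levels27 rfl (by decide +kernel) (by decide +kernel) (by decide +kernel)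

/-- Factor number 27. -/
def f27 : Factor where
  S := s27
  ok := ok27
  mult := 6
  counts := [1, 2, 1, 4, 2, 1, 4, 2, 1, 4, 2, 4]
  hcounts := by decide +kernel

/-- Spec number 28. -/
def s28 : Spec where
  m := 7
  k := 1
  e := ⟨7, 7, 1⟩
  C := [⟨⟨1, 0, 0, 0, 1, 0, 0, 0, 1⟩, 0⟩,
    ⟨⟨3, 0, 0, 0, 5, 0, 0, 0, 1⟩, 0⟩,
    ⟨⟨1, 0, 0, 0, 2, 0, 0, 0, 1⟩, 0⟩,
    ⟨⟨2, 0, 0, 0, 4, 0, 0, 0, 1⟩, 0⟩,
    ⟨⟨3, 0, 0, 0, 3, 0, 0, 0, 1⟩, 0⟩,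
    ⟨⟨1, 0, 0, 0, 4, 0, 0, 0, 1⟩, 0⟩,
    ⟨⟨6, 0, 0, 0, 6, 0, 0, 0, 1⟩, 0⟩,
    ⟨⟨2, 0, 0, 0, 1, 0, 0, 0, 1⟩, 0⟩,
    ⟨⟨3, 0, 0, 0, 6, 0, 0, 0, 1⟩, 0⟩,
    ⟨⟨4, 0, 0, 0, 2, 0, 0, 0, 1⟩, 0⟩,
    ⟨⟨6, 0, 0, 0, 5, 0, 0, 0, 1⟩, 0⟩,
    ⟨⟨2, 0, 0, 0, 2, 0, 0, 0, 1⟩, 0⟩,
    ⟨⟨5, 0, 0, 0, 3, 0, 0, 0, 1⟩, 0⟩,
    ⟨⟨4, 0, 0, 0, 4, 0, 0, 0, 1⟩, 0⟩,
    ⟨⟨6, 0, 0, 0, 3, 0, 0, 0, 1⟩, 0⟩,
    ⟨⟨5, 0, 0, 0, 6, 0, 0, 0, 1⟩, 0⟩,
    ⟨⟨4, 0, 0, 0, 1, 0, 0, 0, 1⟩, 0⟩,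
    ⟨⟨5, 0, 0, 0, 5, 0, 0, 0, 1⟩, 0⟩]

theorem ok28 : s28.Ok where
  hm := by decide
  one_mem := by decide +kernel
  mul_mem := by decide +kernel
  nodupC := by decide +kernel
  nodupX := by decide +kernel
  act_mem := by decide +kernel
  exponent := by decide +kernel

/-- A derived chain for spec 28. -/
def levels28 : List (List (Lin s28.m s28.k)) :=
  [s28.C,
    [⟨⟨1, 0, 0, 0, 1, 0, 0, 0, 1⟩, 0⟩]]

theorem solvable28 : derivedSeries (carrier ok28) 2 = ⊥ :=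
  derivedSeries_eq_bot ok28 levels28 rfl (by decide +kernel) (by decide +kernel) (by decide +kernel)

/-- Factor number 28. -/
def f28 : Factor where
  S := s28
  ok := ok28
  mult := 6
  counts := [1, 50, 225, 50, 666, 49, 666, 98, 441, 98, 882, 882]
  hcounts := by decide +kernel

/-- Spec number 29. -/
def s29 : Spec where
  m := 7
  k := 4
  e := ⟨7, 7, 1⟩
  C := [⟨⟨1, 0, 0, 0, 1, 0, 0, 0, 1⟩, 0⟩,
    ⟨⟨4, 6, 0, 3, 3, 0, 0, 0, 1⟩, 1⟩,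
    ⟨⟨6, 0, 0, 0, 6, 0, 0, 0, 1⟩, 2⟩,
    ⟨⟨3, 1, 0, 4, 4, 0, 0, 0, 1⟩, 3⟩]

theorem ok29 : s29.Ok where
  hm := by decide
  one_mem := by decide +kernel
  mul_mem := by decide +kernel
  nodupC := by decide +kernel
  nodupX := by decide +kernel
  act_mem := by decide +kernel
  exponent := by decide +kernel

/-- A derived chain for spec 29. -/
def levels29 : List (List (Lin s29.m s29.k)) :=
  [s29.C,
    [⟨⟨1, 0, 0, 0, 1, 0, 0, 0, 1⟩, 0⟩]]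

theorem solvable29 : derivedSeries (carrier ok29) 2 = ⊥ :=
  derivedSeries_eq_bot ok29 levels29 rfl (by decide +kernel) (by decide +kernel) (by decide +kernel)

/-- Factor number 29. -/
def f29 : Factor where
  S := s29
  ok := ok29
  mult := 6
  counts := [1, 50, 1, 148, 50, 49, 148, 98, 49, 196, 98, 196]
  hcounts := by decide +kernel

/-- Spec number 30. -/
def s30 : Spec where
  m := 3
  k := 2
  e := ⟨3, 3, 1⟩
  C := [⟨⟨1, 0, 0, 0, 1, 0, 0, 0, 1⟩, 0⟩,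
    ⟨⟨2, 0, 0, 0, 2, 0, 0, 0, 1⟩, 1⟩]

theorem ok30 : s30.Ok where
  hm := by decide
  one_mem := by decide +kernel
  mul_mem := by decide +kernel
  nodupC := by decide +kernel
  nodupX := by decide +kernel
  act_mem := by decide +kernel
  exponent := by decide +kernel

/-- A derived chain for spec 30. -/
def levels30 : List (List (Lin s30.m s30.k)) :=
  [s30.C,
    [⟨⟨1, 0, 0, 0, 1, 0, 0, 0, 1⟩, 0⟩]]

theorem solvable30 : derivedSeries (carrier ok30) 2 = ⊥ :=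
  derivedSeries_eq_bot ok30 levels30 rfl (by decide +kernel) (by decide +kernel) (by decide +kernel)

/-- Factor number 30. -/
def f30 : Factor where
  S := s30
  ok := ok30
  mult := 12
  counts := [1, 10, 9, 10, 18, 1, 18, 10, 9, 10, 18, 18]
  hcounts := by decide +kernel

/-- The factors of the solvable product. -/
def solvableSide : List Factor :=
  [f1, f4, f6, f7, f8, f10, f11, f13, f14, f15, f17, f21, f23, f26, f28]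

/-- The factors of the non-solvable product. -/
def otherSide : List Factor :=
  [f0, f2, f3, f5, f9, f12, f16, f18, f19, f20, f22, f24, f25, f27, f29, f30]

theorem predicted_eq : (List.range Spec.factorLists.length).map (predicted solvableSide) =
    (List.range Spec.factorLists.length).map (predicted otherSide) := by
  decide +kernel

theorem derived_solvableSide : ∀ F ∈ solvableSide, derivedSeries (carrier F.ok) 3 = ⊥ := by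
  simp only [solvableSide, List.forall_mem_cons]
  exact ⟨derivedSeries_eq_bot_of_le (by norm_num) solvable1, derivedSeries_eq_bot_of_le (by norm_num) solvable4, derivedSeries_eq_bot_of_le (by norm_num) solvable6, derivedSeries_eq_bot_of_le (by norm_num) solvable7, derivedSeries_eq_bot_of_le (by norm_num) solvable8, derivedSeries_eq_bot_of_le (by norm_num) solvable10, derivedSeries_eq_bot_of_le (by norm_num) solvable11, derivedSeries_eq_bot_of_le (by norm_num) solvable13, derivedSeries_eq_bot_of_le (by norm_num) solvable14, derivedSeries_eq_bot_of_le (by norm_num) solvable15, derivedSeries_eq_bot_of_le (by norm_num) solvable17, derivedSeries_eq_bot_of_le (by norm_num) solvable21, derivedSeries_eq_bot_of_le (by norm_num) solvable23, derivedSeries_eq_bot_of_le (by norm_num) solvable26, derivedSeries_eq_bot_of_le (by norm_num) solvable28, fun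 F hF => (List.not_mem_nil hF).elim⟩

end CfsgLib.OrderTypeExample.Data
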