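import Cfsg.Agent.Lib.OrderTypeExample.Spec

/-!
Products of the explicit groups: order statistics and solvability.
-/

set_option autoImplicit false

namespace CfsgLib.OrderTypeExample

open Spec
open scoped commutatorElement

/-- If two finite groups have, for every `n`, equally many solutions of `x ^ n = 1`,
they have equally many elements of each order. -/
theorem card_orderOf_eq {G H : Type} [Group G] [Finite G] [Group H] [Finite H]
    (h : ∀ n : ℕ, n ≠ 0 → Nat.card {g : G // g ^ n = 1} = Nat.card {x : H // x ^ n = 1}) (n : ℕ) :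
    Nat.card {g : G // orderOf g = n} = Nat.card {x : H // orderOf x = n} := by
  classical
  have := Fintype.ofFinite G
  have := Fintype.ofFinite H
  rcases Nat.eq_zero_or_pos n with rfl | hn
  · have hG : IsEmpty {g : G // orderOf g = 0} := ⟨fun g => (orderOf_pos g.1).ne' g.2⟩
    have hH : IsEmpty {x : H // orderOf x = 0} := ⟨fun g => (orderOf_pos g.1).ne' g.2⟩
    rw [Nat.card_of_isEmpty, Nat.card_of_isEmpty]
  induction n using Nat.strong_induction_on with
  | _ n ih =>
    have key : ∀ (X : Type) [Group X] [Fintype X],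
        ∑ d ∈ n.divisors, Nat.card {g : X // orderOf g = d} = Nat.card {g : X // g ^ n = 1} := fun X _ _ => by
      simp only [Nat.card_eq_fintype_card, Fintype.card_subtype]
      convert sum_card_orderOf_eq_card_pow_eq_one (G := X) hn.ne'
    have h1 := h n hn.ne'
    rw [← key, ← key, ← Nat.cons_self_properDivisors hn.ne', Finset.sum_cons, Finset.sum_cons] at h1
    rw [Finset.sum_congr rfl (fun d hd => ih d (Nat.mem_properDivisors.mp hd).2
      (Nat.pos_of_mem_properDivisors hd))] at h1
    exact Nat.add_right_cancel h1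

theorem card_pow_eq_one_pi {ι : Type} [Finite ι] {X : ι → Type} [∀ i, Monoid (X i)] (n : ℕ) :
    Nat.card {x : ∀ i, X i // x ^ n = 1} = ∏ᶠ i, Nat.card {y : X i // y ^ n = 1} := by
  have := Fintype.ofFinite ι
  rw [finprod_eq_prod_of_fintype, ← Nat.card_pi]
  exact Nat.card_congr ((Equiv.subtypeEquivRight fun x => by simp [funext_iff]).trans
    (Equiv.subtypePiEquivPi (p := fun i (y : X i) => y ^ n = 1)))

theorem card_pow_gcd {G : Type} [Group G] (hexp : ∀ g : G, g ^ 84 = 1) (n : ℕ) :
    Nat.card {g : G // g ^ n = 1} = Nat.card {g : G // g ^ Nat.gcd n 84 = 1} :=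
  Nat.card_congr (Equiv.subtypeEquivRight fun g => by
    rw [← orderOf_dvd_iff_pow_eq_one, ← orderOf_dvd_iff_pow_eq_one, Nat.dvd_gcd_iff]
    exact ⟨fun h => ⟨h, orderOf_dvd_iff_pow_eq_one.mpr (hexp g)⟩, fun h => h.1⟩)

theorem derivedSeries_pi_eq_bot {ι : Type} {X : ι → Type} [∀ i, Group (X i)] (N : ℕ)
    (h : ∀ i, derivedSeries (X i) N = ⊥) : derivedSeries (∀ i, X i) N = ⊥ := by
  rw [eq_bot_iff]
  intro x hx
  rw [Subgroup.mem_bot]
  funext i
  have h1 : (Pi.evalMonoidHom X i) x ∈ derivedSeries (X i) N :=
    map_derivedSeries_le_derivedSeries _ N (Subgroup.mem_map_of_mem _ hx)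
  rwa [h i, Subgroup.mem_bot] at h1

theorem derivedSeries_eq_bot_of_le {G : Type} [Group G] {a b : ℕ} (hab : a ≤ b)
    (h : derivedSeries G a = ⊥) : derivedSeries G b = ⊥ :=
  le_bot_iff.mp (h ▸ derivedSeries_antitone G hab)

/-- A bundle of data with its checks, a multiplicity, and its counts at the divisors of `84`. -/
structure Factor where
  S : Spec
  ok : S.Ok
  mult : ℕ
  counts : List ℕ
  hcounts : factorLists.map S.count = counts

/-- The index type of the factors, with multiplicity. -/
abbrev Idx (L : List Factor) : Type := Σ i : Fin L.length, Fin (L[i]).mult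

/-- The product group of a list of factors. -/
abbrev Big (L : List Factor) : Type := ∀ j : Idx L, carrier (L[j.1]).ok

/-- The predicted number of solutions. -/
def predicted (L : List Factor) (d : ℕ) : ℕ :=
  (L.map fun F => (F.counts.getD d 0) ^ F.mult).prod

theorem card_big (L : List Factor) (d : ℕ) (hd : d < factorLists.length) :
    Nat.card {x : Big L // x ^ (factorLists[d]).prod = 1} = predicted L d := by
  rw [card_pow_eq_one_pi, finprod_eq_prod_of_fintype, Fintype.prod_sigma]
  have h1 : ∀ F : Factor, Nat.card {y : carrier F.ok // y ^ (factorLists[d]).prod = 1} = F.counts.getD d 0 :=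
    fun F => by
      rw [card_pow_eq_one, ← F.hcounts, List.getD_eq_getElem?_getD,
        List.getElem?_map, List.getElem?_eq_getElem hd]
      rfl
  rw [predicted, ← Fin.prod_univ_fun_getElem]
  refine Finset.prod_congr rfl fun i _ => ?_
  refine (Finset.prod_congr rfl fun y _ => h1 _).trans ?_
  show ∏ _y : Fin (L[i]).mult, (L[i]).counts.getD d 0 = (L[i]).counts.getD d 0 ^ (L[i]).mult
  rw [Finset.prod_const, Finset.card_univ, Fintype.card_fin]

theorem gcd_84_mem (n : ℕ) : ∃ d, ∃ h : d < factorLists.length, (factorLists[d]).prod = Nat.gcd n 84 := by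
  have h1 : Nat.gcd n 84 ∈ Nat.divisors 84 :=
    Nat.mem_divisors.mpr ⟨Nat.gcd_dvd_right n 84, by norm_num⟩
  have h2 : Nat.divisors 84 ⊆ (factorLists.map List.prod).toFinset := by decide
  obtain ⟨l, hl, he⟩ := List.mem_map.mp (List.mem_toFinset.mp (h2 h1))
  obtain ⟨d, hd, rfl⟩ := List.getElem_of_mem hl
  exact ⟨d, hd, he⟩

theorem same_order_type (L M : List Factor)
    (h : (List.range factorLists.length).map (predicted L) = (List.range factorLists.length).map (predicted M))
    (n : ℕ) : Nat.card {g : Big L // orderOf g = n} = Nat.card {g : Big M // orderOf g = n} := by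
  refine card_orderOf_eq (fun k _ => ?_) n
  have hL : ∀ g : Big L, g ^ 84 = 1 := fun g => funext fun j => pow_84 _ (g j)
  have hM : ∀ g : Big M, g ^ 84 = 1 := fun g => funext fun j => pow_84 _ (g j)
  rw [card_pow_gcd hL, card_pow_gcd hM]
  obtain ⟨d, hd, he⟩ := gcd_84_mem k
  rw [← he, card_big L d hd, card_big M d hd]
  exact List.map_inj_left.mp h d (List.mem_range.mpr hd)

theorem not_solvable_of_commutators {G : Type} [Group G] {a b u v u' v' : G}
    (hu : u ∈ Subgroup.closure {a, b}) (hv : v ∈ Subgroup.closure {a, b})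
    (hu' : u' ∈ Subgroup.closure {a, b}) (hv' : v' ∈ Subgroup.closure {a, b})
    (ha : a * (v * u) = u * v) (hb : b * (v' * u') = u' * v') (hne : a ≠ 1) : ¬ Group.IsSolvable G := by
  rintro ⟨N, hN⟩
  have key : ∀ n, Subgroup.closure {a, b} ≤ derivedSeries G n := by
    intro n
    induction n with
    | zero => exact le_top
    | succ n ih =>
      rw [Subgroup.closure_le, derivedSeries_succ]
      rintro x (rfl | rfl)
      · have e : x = ⁅u, v⁆ := by rw [commutatorElement_def, eq_mul_inv_of_mul_eq ha]; group
        rw [e]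
        exact Subgroup.commutator_mem_commutator (ih hu) (ih hv)
      · have e : x = ⁅u', v'⁆ := by rw [commutatorElement_def, eq_mul_inv_of_mul_eq hb]; group
        rw [e]
        exact Subgroup.commutator_mem_commutator (ih hu') (ih hv')
  have h1 := key N (Subgroup.subset_closure (Or.inl rfl))
  rw [hN, Subgroup.mem_bot] at h1
  exact hne h1

end CfsgLib.OrderTypeExample
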