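import Cfsg.Agent.Lib.OrderTypeExample.Basic

/-!
From an explicit list of linear parts to a finite group, its solution counts and its solvability.
-/

set_option autoImplicit false

namespace CfsgLib.OrderTypeExample

open scoped commutatorElement

/-- Data of a group `V ⋊ C`: `V` is cut out coordinatewise by `e • x = 0`, `C` is a list. -/
structure Spec where
  m : ℕ
  k : ℕ
  e : V3 (ZMod m)
  C : List (Lin m k)

namespace Spec

/-- The divisors of `84`, as lists of prime factors. -/
def factorLists : List (List ℕ) :=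
  [[], [2], [3], [2, 2], [2, 3], [7], [2, 2, 3], [2, 7], [3, 7], [2, 2, 7], [2, 3, 7], [2, 2, 3, 7]]

/-- Fast powers along a list of factors. -/
def pw {M : Type} [Monoid M] (x : M) : List ℕ → M
  | [] => x
  | p :: ps => pw (x ^ p) ps

theorem pw_eq {M : Type} [Monoid M] : ∀ (ps : List ℕ) (x : M), pw x ps = x ^ ps.prod
  | [], x => (pow_one x).symm
  | p :: ps, x => by rw [pw, pw_eq ps, ← pow_mul, List.prod_cons]

variable (S : Spec)

/-- Membership in `V`. -/
def InV (v : V3 (ZMod S.m)) : Prop := S.e.x * v.x = 0 ∧ S.e.y * v.y = 0 ∧ S.e.z * v.z = 0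

instance : DecidablePred S.InV := fun _ => inferInstanceAs (Decidable (_ ∧ _))

/-- One coordinate of `V`. -/
def coord (a : ZMod S.m) : List (ZMod S.m) :=
  ((List.range S.m).map (fun i : ℕ => (i : ZMod S.m))).filter (fun x => decide (a * x = 0))

/-- The elements of `V`. -/
def vlist : List (V3 (ZMod S.m)) :=
  ((S.coord S.e.x) ×ˢ ((S.coord S.e.y) ×ˢ (S.coord S.e.z))).map fun t => ⟨t.1, t.2.1, t.2.2⟩

/-- The number of solutions of `x ^ n = 1` for `n = ps.prod`. -/
def count (ps : List ℕ) : ℕ :=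
  (S.C.map fun c =>
    let w := pw (⟨1, c⟩ : Acc S.m S.k) ps
    if w.c = 1 then S.vlist.countP (fun v => decide (w.T.act v = 0)) else 0).sum

/-- The facts to be checked about the data. -/
structure Ok : Prop where
  hm : S.m ≠ 0
  one_mem : (1 : Lin S.m S.k) ∈ S.C
  mul_mem : ∀ a ∈ S.C, ∀ b ∈ S.C, a * b ∈ S.C
  nodupC : S.C.Nodup
  nodupX : (S.coord S.e.x).Nodup ∧ (S.coord S.e.y).Nodup ∧ (S.coord S.e.z).Nodup
  act_mem : ∀ c ∈ S.C, ∀ v ∈ S.vlist, S.InV (c.A.act v)
  exponent : S.count [2, 2, 3, 7] = S.C.length * S.vlist.length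

variable {S} (ok : S.Ok)
include ok

theorem mem_coord {a x : ZMod S.m} : x ∈ S.coord a ↔ a * x = 0 := by
  have : NeZero S.m := ⟨ok.hm⟩
  simp only [coord, List.mem_filter, List.mem_map, List.mem_range, decide_eq_true_eq]
  exact ⟨fun h => h.2, fun h => ⟨⟨x.val, ZMod.val_lt x, ZMod.natCast_zmod_val x⟩, h⟩⟩

theorem mem_vlist {v : V3 (ZMod S.m)} : v ∈ S.vlist ↔ S.InV v := by
  rw [vlist, List.mem_map]
  constructor
  · rintro ⟨⟨a, b, c⟩, h, rfl⟩
    rw [List.mem_product, List.mem_product, mem_coord ok, mem_coord ok, mem_coord ok] at h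
    exact h
  · intro h
    refine ⟨(v.x, v.y, v.z), ?_, rfl⟩
    rw [List.mem_product, List.mem_product, mem_coord ok, mem_coord ok, mem_coord ok]
    exact h

theorem nodup_vlist : S.vlist.Nodup := by
  refine List.Nodup.map ?_ (ok.nodupX.1.product (ok.nodupX.2.1.product ok.nodupX.2.2))
  intro s t h
  rw [V3.ext_iff] at h
  exact Prod.ext h.1 (Prod.ext h.2.1 h.2.2)

end Spec

open Spec

/-- The group of the data, as a submonoid of all affine elements. -/
def carrier {S : Spec} (ok : S.Ok) : Submonoid (El S.m S.k) where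
  carrier := {x | S.InV x.v ∧ x.c ∈ S.C}
  one_mem' := ⟨⟨mul_zero _, mul_zero _, mul_zero _⟩, ok.one_mem⟩
  mul_mem' := by
    rintro p q ⟨hp, hp'⟩ ⟨hq, hq'⟩
    refine ⟨?_, ok.mul_mem _ hp' _ hq'⟩
    obtain ⟨h1, h2, h3⟩ := ok.act_mem _ hp' q.v ((mem_vlist ok).mpr hq)
    obtain ⟨g1, g2, g3⟩ := hp
    refine ⟨?_, ?_, ?_⟩
    · show S.e.x * (p.v.x + (p.c.A.act q.v).x) = 0
      rw [mul_add, g1, h1, add_zero]
    · show S.e.y * (p.v.y + (p.c.A.act q.v).y) = 0
      rw [mul_add, g2, h2, add_zero]
    · show S.e.z * (p.v.z + (p.c.A.act q.v).z) = 0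
      rw [mul_add, g3, h3, add_zero]

variable {S : Spec} (ok : S.Ok)

/-- The underlying finset of the group. -/
def elems (S : Spec) : Finset (Lin S.m S.k × V3 (ZMod S.m)) := S.C.toFinset ×ˢ S.vlist.toFinset

/-- The group is in bijection with `C × V`. -/
def elemsEquiv : carrier ok ≃ elems S where
  toFun x := ⟨(x.1.c, x.1.v), by
    simp only [elems, Finset.mem_product, List.mem_toFinset]
    exact ⟨x.2.2, (mem_vlist ok).mpr x.2.1⟩⟩
  invFun p := ⟨⟨p.1.2, p.1.1⟩, by
    have h := p.2
    simp only [elems, Finset.mem_product, List.mem_toFinset] at h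
    exact ⟨(mem_vlist ok).mp h.2, h.1⟩⟩
  left_inv _ := rfl
  right_inv _ := rfl

instance : Fintype (carrier ok) := Fintype.ofEquiv _ (elemsEquiv ok).symm

theorem card_carrier : Nat.card (carrier ok) = S.C.length * S.vlist.length := by
  rw [Nat.card_congr (elemsEquiv ok), Nat.card_eq_finsetCard, elems, Finset.card_product,
    List.toFinset_card_of_nodup ok.nodupC, List.toFinset_card_of_nodup (nodup_vlist ok)]

theorem card_pow_eq_one (ps : List ℕ) : Nat.card {x : carrier ok // x ^ ps.prod = 1} = S.count ps := by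
  have key : ∀ x : carrier ok, x ^ ps.prod = 1 ↔
      (pw (⟨1, x.1.c⟩ : Acc S.m S.k) ps).c = 1 ∧ (pw (⟨1, x.1.c⟩ : Acc S.m S.k) ps).T.act x.1.v = 0 := by
    intro x
    rw [pw_eq, Subtype.ext_iff, SubmonoidClass.coe_pow, pow_eq_acc, OneMemClass.coe_one]
    exact El.ext_iff.trans and_comm
  let P : Lin S.m S.k × V3 (ZMod S.m) → Prop := fun p =>
    (pw (⟨1, p.1⟩ : Acc S.m S.k) ps).c = 1 ∧ (pw (⟨1, p.1⟩ : Acc S.m S.k) ps).T.act p.2 = 0
  have e : Nat.card {x : carrier ok // x ^ ps.prod = 1} = ((elems S).filter P).card := by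
    rw [← Nat.card_eq_finsetCard]
    refine Nat.card_congr (((elemsEquiv ok).subtypeEquiv (q := fun p => P p.1) fun x => key x).trans
      ((Equiv.subtypeSubtypeEquivSubtypeInter _ _).trans (Equiv.subtypeEquivRight fun p => ?_)))
    simp [Finset.mem_filter]
  rw [e, Finset.card_filter, elems, Finset.sum_product, List.sum_toFinset _ ok.nodupC]
  refine congrArg List.sum (List.map_congr_left fun c _ => ?_)
  by_cases h : (pw (⟨1, c⟩ : Acc S.m S.k) ps).c = 1
  · simp only [P, h, true_and, if_true]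
    rw [List.sum_toFinset _ (nodup_vlist ok)]
    induction S.vlist with
    | nil => rfl
    | cons a l ih => rw [List.map_cons, List.sum_cons, List.countP_cons, ih]; simp [add_comm]
  · simp [P, h]

theorem pow_84 (x : carrier ok) : x ^ 84 = 1 := by
  have h1 : Nat.card {x : carrier ok // x ^ 84 = 1} = Nat.card (carrier ok) := by
    rw [card_carrier, ← ok.exponent, ← card_pow_eq_one ok [2, 2, 3, 7],
      show ([2, 2, 3, 7] : List ℕ).prod = 84 from by norm_num [List.prod_cons, List.prod_nil]]
  by_contra hx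
  exact (Finite.card_subtype_lt (p := fun y : carrier ok => y ^ 84 = 1) hx).ne h1

instance : Group (carrier ok) where
  inv x := x ^ 83
  inv_mul_cancel x := show x ^ 83 * x = 1 by rw [← pow_succ]; exact pow_84 ok x

theorem derivedSeries_eq_bot (levels : List (List (Lin S.m S.k)))
    (h0 : levels.head? = some S.C)
    (hclosed : ∀ T ∈ levels, (1 : Lin S.m S.k) ∈ T ∧ ∀ a ∈ T, ∀ b ∈ T, a * b ∈ T)
    (hchain : ∀ p ∈ levels.zip levels.tail, ∀ a ∈ p.1, ∀ b ∈ p.1,
      ∃ z ∈ p.2, a * b = z * (b * a))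
    (hlast : levels.getLast? = some [1]) :
    derivedSeries (carrier ok) levels.length = ⊥ := by
  have hC : ∀ x : carrier ok, x.1.c ∈ S.C := fun x => x.2.2
  have hstep : ∀ i, (hi : i + 1 < levels.length) → ∀ a ∈ levels[i], ∀ b ∈ levels[i],
      ∃ z ∈ levels[i + 1], a * b = z * (b * a) := fun i hi =>
    hchain (levels[i], levels[i + 1]) (by
      rw [List.mem_iff_getElem]
      exact ⟨i, by simp [List.length_zip, List.length_tail]; omega, by simp [List.getElem_zip, List.getElem_tail]⟩)
  let lvl : ∀ i, i < levels.length → Subgroup (carrier ok) := fun i hi =>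
    { carrier := {x | x.1.c ∈ levels[i]}
      one_mem' := (hclosed _ (List.getElem_mem hi)).1
      mul_mem' := fun ha hb => (hclosed _ (List.getElem_mem hi)).2 _ ha _ hb
      inv_mem' := fun {x} hx => by
        show (x ^ 83 : carrier ok).1.c ∈ levels[i]
        have : ∀ n : ℕ, (x ^ n : carrier ok).1.c ∈ levels[i] := fun n => by
          induction n with
          | zero => exact (hclosed _ (List.getElem_mem hi)).1
          | succ n ih => rw [pow_succ]; exact (hclosed _ (List.getElem_mem hi)).2 _ ih _ hx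
        exact this 83 }
  have main : ∀ i (hi : i < levels.length), derivedSeries (carrier ok) i ≤ lvl i hi := by
    intro i
    induction i with
    | zero =>
      intro hi x _
      show x.1.c ∈ levels[0]
      rw [List.head?_eq_getElem?, List.getElem?_eq_getElem hi, Option.some_inj] at h0
      rw [h0]
      exact hC x
    | succ i ih =>
      intro hi
      rw [derivedSeries_succ, Subgroup.commutator_le]
      intro a ha b hb
      obtain ⟨z, hz, hze⟩ := hstep i hi _ (ih (by omega) ha) _ (ih (by omega) hb)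
      show (⁅a, b⁆ : carrier ok).1.c ∈ levels[i + 1]
      have h1 : ∀ u w : carrier ok, (u * w).1.c = u.1.c * w.1.c := fun _ _ => rfl
      have h2 : (⁅a, b⁆ * (b * a)).1.c = z * (b * a).1.c := by
        rw [show ⁅a, b⁆ * (b * a) = a * b by rw [commutatorElement_def]; group]
        exact hze
      have h3 := congrArg (· * ((b * a)⁻¹ : carrier ok).1.c) h2
      simp only [h1, mul_assoc] at h3
      have h4 : b.1.c * (a.1.c * (b * a)⁻¹.1.c) = 1 := by
        rw [← mul_assoc, ← h1, ← h1, mul_inv_cancel]; rfl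
      rw [h4, mul_one, mul_one] at h3
      rw [h3]
      exact hz
  have hne : levels.length ≠ 0 := fun h => by simp [List.length_eq_zero_iff.mp h] at h0
  obtain ⟨j, hj⟩ := Nat.exists_eq_succ_of_ne_zero hne
  rw [hj, derivedSeries_succ, eq_bot_iff, Subgroup.commutator_le]
  intro a ha b hb
  have hl : levels[j]'(by omega) = [1] := by
    rw [List.getLast?_eq_getElem?, List.getElem?_eq_getElem (by omega), Option.some_inj] at hlast
    simpa [hj] using hlast
  have h1 : ∀ u ∈ derivedSeries (carrier ok) j, u.1.c = 1 := fun u hu => by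
    have h := main j (by omega) hu
    have h' : u.1.c ∈ levels[j]'(by omega) := h
    rw [hl] at h'
    simpa using h'
  rw [Subgroup.mem_bot, commutatorElement_eq_one_iff_mul_comm]
  refine Subtype.ext (El.ext ?_ ?_)
  · show a.1.v + a.1.c.A.act b.1.v = b.1.v + b.1.c.A.act a.1.v
    rw [h1 a ha, h1 b hb]
    show a.1.v + (1 : M3 (ZMod S.m)).act b.1.v = b.1.v + (1 : M3 (ZMod S.m)).act a.1.v
    ext <;> simp [M3.act] <;> ring
  · show a.1.c * b.1.c = b.1.c * a.1.c
    rw [h1 a ha, h1 b hb]

end CfsgLib.OrderTypeExample
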